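import Groth.Agent.UFDLib.Regular
import Groth.Agent.RegLoc.Order
import Groth.Agent.FlatHartogs.Normal
import Mathlib.AlgebraicGeometry.Properties

/-!
# Opens of regular affine schemes sit with big complement in affine opens
-/

set_option autoImplicit false
set_option backward.isDefEq.respectTransparency false
set_option backward.isDefEq.respectTransparency.types false
set_option linter.style.haveILetI false

universe u

open CategoryTheory AlgebraicGeometry TopologicalSpace
open Groth.Agent

noncomputable section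

namespace Groth.Agent.EtHullLib

theorem isPrincipal_prime_of_height_le_one (R : Type u) [CommRing R] [IsDomain R] [UniqueFactorizationMonoid R]
    (P : Ideal R) [P.IsPrime] (h : P.height ≤ 1) : P.IsPrincipal := by
  rcases eq_or_ne P ⊥ with rfl | hP
  · exact bot_isPrincipal
  obtain ⟨p, hpP, hp⟩ := Ideal.IsPrime.exists_mem_prime_of_ne_bot ‹_› hP
  haveI : (Ideal.span {p}).IsPrime := (Ideal.span_singleton_prime hp.ne_zero).mpr hp
  have hle : Ideal.span {p} ≤ P := (Ideal.span_singleton_le_iff_mem _).mpr hpP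
  rcases eq_or_lt_of_le hle with he | hlt
  · exact ⟨p, he.symm⟩
  · exfalso
    have h0 : (⊥ : Ideal R) < Ideal.span {p} := bot_lt_iff_ne_bot.mpr fun he =>
      hp.ne_zero ((Ideal.span_singleton_eq_bot).mp he)
    haveI : (⊥ : Ideal R).IsPrime := Ideal.isPrime_bot
    have h1 : (1 : ℕ∞) ≤ (Ideal.span {p}).height :=
      le_add_self.trans (Ideal.height_add_one_le_of_lt_of_isPrime h0)
    have h2 := (Ideal.height_add_one_le_of_lt_of_isPrime hlt).trans h
    have h3 : (1 : ℕ∞) + 1 ≤ 1 := by
      rw [add_comm] at h2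
      exact le_trans (add_le_add le_rfl h1) h2
    exact absurd h3 (by decide)

variable (C : Type u) [CommRing C] [IsNoetherianRing C]

theorem isPrincipal_map_finset_prod (S : Finset (Ideal C)) (hS : ∀ Q ∈ S, Q.IsPrime ∧ Q.height ≤ 1)
    (m : Ideal C) [m.IsPrime] (hreg : IsRegularLocalRing (Localization.AtPrime m)) :
    ((∏ Q ∈ S, Q).map (algebraMap C (Localization.AtPrime m))).IsPrincipal := by
  classical
  haveI := hreg
  haveI : IsDomain (Localization.AtPrime m) := RegLoc.isDomain _
  haveI := UFDLib.ufd_of_isRegularLocalRing (Localization.AtPrime m)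
  induction S using Finset.induction_on with
  | empty => exact ⟨1, by simp [Ideal.one_eq_top, Ideal.map_top, Ideal.submodule_span_eq]⟩
  | @insert Q S hQ ih =>
    rw [Finset.prod_insert hQ, Ideal.map_mul]
    obtain ⟨a, ha⟩ := ih fun Q' h' => hS Q' (Finset.mem_insert_of_mem h')
    obtain ⟨hp, hht⟩ := hS Q (Finset.mem_insert_self _ _)
    haveI := hp
    have hb : (Q.map (algebraMap C (Localization.AtPrime m))).IsPrincipal := by
      by_cases hle : Q ≤ m
      · have hd : Disjoint (m.primeCompl : Set C) (Q : Set C) :=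
          Set.disjoint_left.mpr fun x hx hxQ => hx (hle hxQ)
        haveI := IsLocalization.isPrime_of_isPrime_disjoint m.primeCompl (Localization.AtPrime m) Q hp hd
        refine isPrincipal_prime_of_height_le_one _ _ ?_
        rw [← IsLocalization.height_comap m.primeCompl]
        rwa [IsLocalization.comap_map_of_isPrime_disjoint m.primeCompl (Localization.AtPrime m) hp hd]
      · obtain ⟨x, hxQ, hxm⟩ := SetLike.not_le_iff_exists.mp hle
        refine ⟨1, ?_⟩
        rw [Ideal.submodule_span_eq, Ideal.span_singleton_one]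
        exact Ideal.eq_top_of_isUnit_mem _ (Ideal.mem_map_of_mem _ hxQ)
          (IsLocalization.map_units (Localization.AtPrime m) (⟨x, hxm⟩ : m.primeCompl))
    obtain ⟨b, hb⟩ := hb
    refine ⟨b * a, ?_⟩
    rw [hb, ha, Ideal.submodule_span_eq, Ideal.submodule_span_eq, Ideal.submodule_span_eq,
      Ideal.span_singleton_mul_span_singleton]

theorem exists_local_generator (J : Ideal C) (m : Ideal C) [m.IsPrime]
    (h : (J.map (algebraMap C (Localization.AtPrime m))).IsPrincipal) :
    ∃ a ∈ J, ∃ t, t ∉ m ∧ ∀ b ∈ J, t * b ∈ Ideal.span {a} := by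
  classical
  let L := Localization.AtPrime m
  obtain ⟨g, hg⟩ := h
  have hgm : g ∈ J.map (algebraMap C L) := by rw [hg]; exact Submodule.mem_span_singleton_self g
  obtain ⟨⟨⟨a, haJ⟩, s⟩, hs⟩ := (IsLocalization.mem_map_algebraMap_iff m.primeCompl L).mp hgm
  refine ⟨a, haJ, ?_⟩
  have hspan : J.map (algebraMap C L) = Ideal.span {algebraMap C L a} := by
    rw [hg, Ideal.submodule_span_eq, ← hs]
    exact (Ideal.span_singleton_mul_right_unit (IsLocalization.map_units L s) g).symm
  obtain ⟨S, hS⟩ := IsNoetherian.noetherian J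
  have hb : ∀ b : S, ∃ t, t ∉ m ∧ t * b.1 ∈ Ideal.span {a} := fun b => by
    have : algebraMap C L b.1 ∈ (Ideal.span {a}).map (algebraMap C L) := by
      rw [Ideal.map_span, Set.image_singleton, ← hspan]
      exact Ideal.mem_map_of_mem _ (hS ▸ Submodule.subset_span b.2)
    obtain ⟨⟨⟨c, hc⟩, u⟩, hu⟩ := (IsLocalization.mem_map_algebraMap_iff m.primeCompl L).mp this
    rw [← map_mul] at hu
    obtain ⟨w, hw⟩ := (IsLocalization.eq_iff_exists m.primeCompl L).mp hu
    refine ⟨w.1 * u.1, (m.primeCompl.mul_mem w.2 u.2 : _), ?_⟩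
    rw [_root_.mul_assoc, _root_.mul_comm u.1 b.1, hw]
    exact Ideal.mul_mem_left _ _ hc
  choose t ht hta using hb
  refine ⟨∏ b : S, t b, fun hmem => ?_, fun b hbJ => ?_⟩
  · obtain ⟨b, -, hb⟩ := (Ideal.IsPrime.prod_mem_iff (p := m)).mp hmem
    exact ht b hb
  · rw [← hS] at hbJ
    induction hbJ using Submodule.span_induction with
    | mem x hx =>
      have hd : t ⟨x, hx⟩ ∣ ∏ b : S, t b := Finset.dvd_prod_of_mem _ (Finset.mem_univ _)
      obtain ⟨c, hc⟩ := hd
      rw [hc, _root_.mul_comm (t ⟨x, hx⟩) c, _root_.mul_assoc]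
      exact Ideal.mul_mem_left _ _ (hta ⟨x, hx⟩)
    | zero => simp
    | add x y _ _ hx hy => rw [mul_add]; exact add_mem hx hy
    | smul c x _ hx => rw [smul_eq_mul, mul_left_comm]; exact Ideal.mul_mem_left _ _ hx

variable {C} (X : Scheme.{u})

/-- An open of a regular noetherian affine scheme is contained in an affine open with complement of codimension two. -/
theorem exists_affine_open (C : CommRingCat.{u}) [IsNoetherianRing C]
    (hreg : ∀ (P : Ideal C) [P.IsPrime], IsRegularLocalRing (Localization.AtPrime P)) (W : (Spec C).Opens) :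
    ∃ W' : (Spec C).Opens, IsAffineOpen W' ∧ W ≤ W' ∧
      ∀ z ∈ W', z ∉ W → (2 : WithBot ℕ∞) ≤ ringKrullDim ((Spec C).presheaf.stalk z) := by
  classical
  obtain ⟨I, hI⟩ := (PrimeSpectrum.isClosed_iff_zeroLocus_ideal _).mp W.isOpen.isClosed_compl
  have hfin : (I.minimalPrimes).Finite := Ideal.finite_minimalPrimes_of_isNoetherianRing C I
  let S : Finset (Ideal C) := hfin.toFinset.filter fun Q => Q.height ≤ 1
  let J : Ideal C := ∏ Q ∈ S, Q
  let W' : (Spec C).Opens := ⟨(PrimeSpectrum.zeroLocus (J : Set C))ᶜ, (PrimeSpectrum.isClosed_zeroLocus _).isOpen_compl⟩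
  have hmem : ∀ x : PrimeSpectrum C, (x : Spec C) ∈ W ↔ ¬ I ≤ x.asIdeal := fun x => by
    have h := Set.ext_iff.mp hI x
    simp only [Set.mem_compl_iff, PrimeSpectrum.mem_zeroLocus, SetLike.coe_subset_coe] at h
    exact ⟨fun hx hle => h.mpr hle hx, fun hx => by_contra fun hxW => hx (h.mp hxW)⟩
  have hmem' : ∀ x : PrimeSpectrum C, (x : Spec C) ∈ W' ↔ ∀ Q ∈ S, ¬ Q ≤ x.asIdeal := fun x => by
    show x ∈ (PrimeSpectrum.zeroLocus (J : Set C))ᶜ ↔ _
    rw [Set.mem_compl_iff, PrimeSpectrum.mem_zeroLocus, SetLike.coe_subset_coe, Ideal.IsPrime.prod_le x.2]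
    push_neg
    rfl
  refine ⟨W', ?_, fun x hx => (hmem' x).mpr fun Q hQ hle => (hmem x).mp hx ?_, fun z hz hzW => ?_⟩
  · let ρ : C →+* Γ(Spec C, W') :=
      (((Spec C).presheaf.map (homOfLE (le_top : W' ≤ ⊤)).op).hom).comp (Scheme.ΓSpecIso C).inv.hom
    have hbo : ∀ t : C, (Spec C).basicOpen (ρ t) = W' ⊓ (PrimeSpectrum.basicOpen t : (Spec C).Opens) := fun t => by
      show (Spec C).basicOpen (((Spec C).presheaf.map (homOfLE (le_top : W' ≤ ⊤)).op).hom
        ((Scheme.ΓSpecIso C).inv t)) = _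
      rw [Scheme.basicOpen_res, basicOpen_eq_of_affine', ← CommRingCat.comp_apply, Iso.inv_hom_id]
      rfl
    have hgen : ∀ m : PrimeSpectrum C, ∃ t, t ∉ m.asIdeal ∧ IsAffineOpen ((Spec C).basicOpen (ρ t)) := fun m => by
      obtain ⟨a, haJ, t, htm, hta⟩ := exists_local_generator C J m.asIdeal
        (isPrincipal_map_finset_prod C S (fun Q hQ => by
          obtain ⟨h1, h2⟩ := Finset.mem_filter.mp hQ
          exact ⟨(hfin.mem_toFinset.mp h1).1.1, h2⟩) m.asIdeal (hreg _))
      refine ⟨t, htm, ?_⟩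
      have heq : (Spec C).basicOpen (ρ t) = PrimeSpectrum.basicOpen (t * a) := by
        rw [hbo, PrimeSpectrum.basicOpen_mul]
        refine Opens.ext ?_
        ext x
        show x ∉ PrimeSpectrum.zeroLocus (J : Set C) ∧ t ∉ x.asIdeal ↔ t ∉ x.asIdeal ∧ a ∉ x.asIdeal
        rw [PrimeSpectrum.mem_zeroLocus, SetLike.coe_subset_coe]
        constructor
        · rintro ⟨hJ, ht⟩
          refine ⟨ht, fun ha => hJ fun b hb => ?_⟩
          have : t * b ∈ x.asIdeal := (Ideal.span_singleton_le_iff_mem _).mpr ha (hta b hb)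
          exact (x.2.mem_or_mem this).resolve_left ht
        · rintro ⟨ht, ha⟩
          exact ⟨fun hle => ha (hle haJ), ht⟩
      rw [heq]
      exact IsAffineOpen.Spec_basicOpen _
    choose t ht hta using hgen
    refine isAffineOpen_of_isAffineOpen_basicOpen W' (Set.range fun m => ρ (t m)) ?_ ?_
    · rw [show (Set.range fun m => ρ (t m)) = ρ '' Set.range t from (Set.range_comp ρ t), ← Ideal.map_span]
      have : Ideal.span (Set.range t) = ⊤ := by
        by_contra hne
        obtain ⟨M, hM, hle⟩ := Ideal.exists_le_maximal _ hne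
        exact ht ⟨M, hM.isPrime⟩ (hle (Ideal.subset_span ⟨_, rfl⟩))
      rw [this, Ideal.map_top]
    · rintro _ ⟨m, rfl⟩
      exact hta m
  · exact (hfin.mem_toFinset.mp (Finset.mem_filter.mp hQ).1).1.2.trans hle
  · have hI' : I ≤ z.asIdeal := by
      by_contra h
      exact hzW ((hmem z).mpr h)
    obtain ⟨Q, hQ, hQz⟩ := Ideal.exists_minimalPrimes_le hI'
    haveI := hQ.1.1
    have hQ2 : ¬ Q.height ≤ 1 := fun h =>
      (hmem' z).mp hz Q (Finset.mem_filter.mpr ⟨hfin.mem_toFinset.mpr hQ, h⟩) hQz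
    letI : Algebra C ((Spec C).presheaf.stalk z) := StructureSheaf.stalkAlgebra (C : Type u) z
    haveI : IsLocalization.AtPrime ((Spec C).presheaf.stalk z) z.asIdeal := StructureSheaf.IsLocalization.to_stalk C z
    rw [IsLocalization.AtPrime.ringKrullDim_eq_height z.asIdeal ((Spec C).presheaf.stalk z)]
    have h2 : (2 : ℕ∞) ≤ z.asIdeal.height :=
      (Order.add_one_le_of_lt (lt_of_not_ge hQ2)).trans (Ideal.height_mono hQz)
    exact WithBot.coe_le_coe.mpr h2

end Groth.Agent.EtHullLib
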