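import Groth.Agent.EtHullLib.Compl
import Groth.Agent.QA.Props
import Groth.Agent.SmLocalST.EtReg
import Groth.Agent.EtaleSections.Finite
import Groth.Agent.SmLocalST.SmoothField

/-!
# The affine hull of an etale scheme over a regular ring
-/

set_option autoImplicit false
set_option backward.isDefEq.respectTransparency false
set_option backward.isDefEq.respectTransparency.types false
set_option linter.style.haveILetI false

universe u

open CategoryTheory AlgebraicGeometry TopologicalSpace
open Groth.Agent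

noncomputable section

namespace Groth.Agent.EtHullLib

/-- functions extend from an open with big complement to a normal noetherian affine scheme -/
theorem isIso_appTop_of_big {Y : Scheme.{u}} [IsAffine Y] [IsLocallyNoetherian Y] {U : Scheme.{u}} (k : U ⟶ Y)
    [IsOpenImmersion k] [QuasiCompact k]
    (hZ : ∀ z : Y, z ∉ k.opensRange → (IsDomain (Y.presheaf.stalk z) ∧ IsIntegrallyClosed (Y.presheaf.stalk z) ∧
      IsNoetherianRing (Y.presheaf.stalk z)) ∧ (2 : WithBot ℕ∞) ≤ ringKrullDim (Y.presheaf.stalk z)) :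
    IsIso k.appTop := by
  let V := k.opensRange
  haveI : QuasiCompact V.ι := by
    rw [← k.isoOpensRange_inv_comp]; infer_instance
  haveI : IsIso (V.ι.appTop) := by
    have h := FlatHartogs.Normal.bijective_res (U := V) hZ (isAffineOpen_top Y)
    haveI h1 : IsIso (Y.presheaf.map (homOfLE (inf_le_left : (⊤ : Y.Opens) ⊓ V ≤ ⊤)).op) :=
      (ConcreteCategory.isIso_iff_bijective _).mpr h
    have he : V.ι ''ᵁ (⊤ : (V : Scheme).Opens) = ⊤ ⊓ V := by rw [Scheme.Opens.ι_image_top, top_inf_eq]
    rw [Scheme.Opens.ι_appTop]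
    rw [show (homOfLE (le_top : V.ι ''ᵁ (⊤ : (V : Scheme).Opens) ≤ ⊤)) =
      eqToHom he ≫ homOfLE inf_le_left from Subsingleton.elim _ _, op_comp, Functor.map_comp]
    infer_instance
  rw [← k.isoOpensRange_hom_ι, Scheme.Hom.comp_appTop]
  infer_instance

theorem hull_etale {R : Type u} [CommRing R] [IsNoetherianRing R]
    (hreg : ∀ (P : Ideal R) [P.IsPrime], IsRegularLocalRing (Localization.AtPrime P))
    {U : Scheme.{u}} (q : U ⟶ Spec (CommRingCat.of R)) [QuasiCompact q]
    (E : Scheme.{u}) [IsAffine E] (j : U ⟶ E) (g : E ⟶ Spec (CommRingCat.of R)) [IsOpenImmersion j] [Etale g]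
    (hjg : j ≫ g = q) : Etale (Spec.map q.appTop ≫ (Spec (CommRingCat.of R)).isoSpec.inv) := by
  subst hjg
  let C : CommRingCat.{u} := Γ(E, ⊤)
  let j' : U ⟶ Spec C := j ≫ E.isoSpec.hom
  let g' : Spec C ⟶ Spec (CommRingCat.of R) := E.isoSpec.inv ≫ g
  haveI : IsRegularRing R := isRegularRing_iff.mpr hreg
  haveI : IsLocallyNoetherian (Spec C) := LocallyOfFiniteType.isLocallyNoetherian g'
  haveI hCn : IsNoetherianRing C :=
    haveI : IsNoetherianRing Γ(Spec C, ⊤) := IsLocallyNoetherian.component_noetherian ⟨⊤, isAffineOpen_top _⟩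
    isNoetherianRing_of_ringEquiv _ ((Scheme.ΓSpecIso C).commRingCatIsoToRingEquiv)
  have hst : ∀ x : Spec C, IsRegularLocalRing ((Spec C).presheaf.stalk x) := fun x =>
    SmLocalST.isRegularLocalRing_stalk_of_etale g' x (SmLocalST.isRegularLocalRing_stalk_spec _ _)
  obtain ⟨W', hW', hWW', hbig⟩ := exists_affine_open C (fun P hP => by
    letI : Algebra C ((Spec C).presheaf.stalk ⟨P, hP⟩) := StructureSheaf.stalkAlgebra (C : Type u) _
    haveI : IsLocalization.AtPrime ((Spec C).presheaf.stalk ⟨P, hP⟩) P := StructureSheaf.IsLocalization.to_stalk C ⟨P, hP⟩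
    haveI := hst ⟨P, hP⟩
    exact IsRegularLocalRing.of_ringEquiv (IsLocalization.algEquiv P.primeCompl
      ((Spec C).presheaf.stalk ⟨P, hP⟩) (Localization.AtPrime P)).toRingEquiv) j'.opensRange
  haveI : IsAffine (W' : Scheme) := hW'
  let k : U ⟶ W' := IsOpenImmersion.lift W'.ι j' (by
    rw [Scheme.Opens.range_ι]; exact hWW')
  have hk : k ≫ W'.ι = j' := IsOpenImmersion.lift_fac _ _ _
  haveI : IsOpenImmersion k := by
    haveI : IsOpenImmersion (k ≫ W'.ι) := by rw [hk]; infer_instance
    exact IsOpenImmersion.of_comp k W'.ι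
  haveI : QuasiCompact k := by
    haveI : CompactSpace U := QuasiCompact.compactSpace_of_compactSpace (j ≫ g)
    infer_instance
  haveI : IsLocallyNoetherian (W' : Scheme) := LocallyOfFiniteType.isLocallyNoetherian W'.ι
  haveI : IsIso k.appTop := isIso_appTop_of_big k fun z hz => by
    haveI := hst z.1
    haveI : IsDomain ((Spec C).presheaf.stalk z.1) := RegLoc.isDomain _
    haveI := UFDLib.ufd_of_isRegularLocalRing ((Spec C).presheaf.stalk z.1)
    let e : (W' : Scheme).presheaf.stalk z ≃+* (Spec C).presheaf.stalk z.1 :=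
      (W'.stalkIso z).commRingCatIsoToRingEquiv
    haveI : IsDomain ((W' : Scheme).presheaf.stalk z) := e.toMulEquiv.isDomain _
    refine ⟨⟨inferInstance, ?_, ?_⟩, ?_⟩
    · exact IsIntegrallyClosed.of_equiv e.symm
    · exact isNoetherianRing_of_ringEquiv _ e.symm
    · rw [ringKrullDim_eq_of_ringEquiv e]
      refine hbig z.1 z.2 fun hmem => hz ?_
      obtain ⟨u, hu⟩ := hmem
      exact ⟨u, Subtype.ext (by rw [← hu, ← hk]; rfl)⟩
  let g'' : (W' : Scheme) ⟶ Spec (CommRingCat.of R) := W'.ι ≫ g'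
  have hq : j ≫ g = k ≫ g'' := by
    show _ = k ≫ W'.ι ≫ g'
    rw [← Category.assoc, hk]
    simp [j', g']
  rw [hq, Scheme.Hom.comp_appTop, Spec.map_comp, Category.assoc]
  have hnat : Spec.map g''.appTop ≫ (Spec (CommRingCat.of R)).isoSpec.inv = (W' : Scheme).isoSpec.inv ≫ g'' :=
    Scheme.isoSpec_inv_naturality g''
  rw [hnat]
  infer_instance

theorem exists_of_hull_etale {R : Type u} [CommRing R]
    {U : Scheme.{u}} (q : U ⟶ Spec (CommRingCat.of R)) [Etale q] [IsSeparated q] [QuasiCompact q]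
    (h : Etale (Spec.map q.appTop ≫ (Spec (CommRingCat.of R)).isoSpec.inv)) :
    ∃ (E : Scheme.{u}) (j : U ⟶ E) (g : E ⟶ Spec (CommRingCat.of R)),
      IsOpenImmersion j ∧ Etale g ∧ IsAffineHom g ∧ j ≫ g = q := by
  haveI := EtaleSections.locallyQuasiFinite_of_unramified q
  haveI h1 := (QA.of_locallyQuasiFinite q).2 ⊤ (isAffineOpen_top _)
  haveI : CompactSpace U := QuasiCompact.compactSpace_of_compactSpace q
  haveI : U.IsQuasiAffine := by
    haveI : IsOpenImmersion U.topIso.inv := inferInstance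
    let i : U ⟶ ((⊤ : U.Opens) : Scheme) := U.topIso.inv
    haveI : (((⊤ : U.Opens) : Scheme)).IsQuasiAffine := by simpa using h1
    exact Scheme.IsQuasiAffine.of_isImmersion i
  refine ⟨_, U.toSpecΓ, _, inferInstance, h, inferInstance, ?_⟩
  rw [← Category.assoc, ← Scheme.toSpecΓ_naturality, Category.assoc]
  exact (congrArg (q ≫ ·) (Spec (CommRingCat.of R)).isoSpec.hom_inv_id).trans (Category.comp_id _)

end Groth.Agent.EtHullLib
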